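import Cfsg.Agent.S4456
import Cfsg.Agent.S4558
import Cfsg.Agent.Lib.Clifford.Correspondence
import Cfsg.Agent.Lib.Block.Covering
import Cfsg.Agent.Lib.BlockA.CentralDefect
import Cfsg.Agent.Lib.Char.Galois
import Cfsg.Agent.Lib.Char.CliffordApps
import Cfsg.Agent.Lib.Char.Linear
import Cfsg.Agent.Lib.Char.Fixed
import Cfsg.Agent.Lib.StructB.Misc
import Cfsg.Agent.Lib.Solvable.PCore
import Cfsg.Prelude.Def_Solvable

/-!
Groups all of whose vanishing elements have prime power order for one prime.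
-/

set_option autoImplicit false

namespace CfsgLib.VanishP

open Cfsg Subgroup

/-- An element of a nilpotent group at which no irreducible character vanishes is central. -/
theorem mem_center_of_nonvanishing (G : Type*) [Group G] [Finite G] [Group.IsNilpotent G] (y : G)
    (h : ∀ χ : IrrCharacter G, (χ : G → ℂ) y ≠ 0) : y ∈ center G := by
  refine Group.nilpotent_center_quotient_ind
    (P := fun G _ _ => Finite G → ∀ y : G, (∀ χ : IrrCharacter G, (χ : G → ℂ) y ≠ 0) → y ∈ center G)
    G ?_ ?_ ‹Finite G› y h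
  · intro G _ _ _ y _
    exact Subsingleton.elim y 1 ▸ one_mem _
  · intro G _ _ ih hfin y hy
    have hq := ih inferInstance (y : G ⧸ center G) fun χ => hy ⟨_,
      CfsgLib.Char.isIrrCharacter_comp_surjective χ.2 (QuotientGroup.mk' (center G))
        (QuotientGroup.mk'_surjective _)⟩
    rw [mem_center_iff]
    intro w
    have hc : w * y * w⁻¹ * y⁻¹ ∈ center G := by
      rw [← QuotientGroup.eq_one_iff]
      have := mem_center_iff.1 hq (w : G ⧸ center G)
      simp only [QuotientGroup.mk_mul, QuotientGroup.mk_inv]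
      rw [this]; group
    by_contra hne
    have hc1 : w * y * w⁻¹ * y⁻¹ ≠ 1 := by
      intro e
      apply hne
      calc w * y = (w * y * w⁻¹ * y⁻¹) * (y * w) := by group
        _ = y * w := by rw [e, one_mul]
    obtain ⟨χ, hχ⟩ := CfsgLib.Char.exists_irr_apply_ne hc1
    have := Fintype.ofFinite G
    have h1 : (χ : G → ℂ) (w * y * w⁻¹) = (χ : G → ℂ) y :=
      CfsgLib.Char.irr_isClassFunction χ.2 y w
    have h2 := CfsgLib.BlockA.irr_central_mul χ
      (fun v => (mem_center_iff.1 hc v).symm) y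
    rw [inv_mul_cancel_right, h1] at h2
    apply hχ
    have h3 : (χ : G → ℂ) (w * y * w⁻¹ * y⁻¹) / (χ : G → ℂ) 1 = 1 := by
      exact mul_right_cancel₀ (hy χ) (by rw [one_mul]; exact h2.symm)
    exact (div_eq_one_iff_eq (CfsgLib.Char.irr_apply_one_ne_zero χ.2)).1 h3

variable {G : Type*} [Group G] [Finite G]

/-- A character over a non-invariant `θ` vanishes on the coset of an element central mod `N`. -/
theorem invariant_of_nonvanishing (N : Subgroup G) [N.Normal] (x y : G) (hx : x ∈ N)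
    (hy : ∀ g : G, g * y * g⁻¹ * y⁻¹ ∈ N) (h : ∀ χ : IrrCharacter G, (χ : G → ℂ) (x * y) ≠ 0)
    (θ : IrrCharacter N) : Clifford.conjFn y (θ : N → ℂ) = (θ : N → ℂ) := by
  classical
  have := Fintype.ofFinite G
  have := Fintype.ofFinite N
  by_contra hne
  obtain ⟨χ, hχ⟩ := Block.exists_over_constituent (G := G) θ
  set T := Clifford.inertia (G := G) (θ : N → ℂ) with hT
  have := Fintype.ofFinite T
  have hNT : N ≤ T := Clifford.le_inertia (Char.irr_isClassFunction θ.2)
  obtain ⟨ψ, hψ, hind, -⟩ := Clifford.exists_indFun_inertia T hNT θ.2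
    (fun g => Clifford.mem_inertia_iff_conjFn) χ.2 hχ
  refine h χ ?_
  rw [← hind, Char.indFun_def, Finset.sum_eq_zero, mul_zero]
  intro u _
  refine Char.extendByZero_of_not_mem ψ fun hu => hne (Clifford.mem_inertia_iff_conjFn.1 ?_)
  have h1 : (u⁻¹ * x * u)⁻¹ * (u⁻¹ * (x * y) * u) ∈ T :=
    mul_mem (inv_mem (hNT (Subgroup.Normal.conj_mem' inferInstance x hx u))) hu
  have h2 : u⁻¹ * y * u⁻¹⁻¹ * y⁻¹ ∈ T := hNT (hy u⁻¹)
  have h3 := mul_mem (inv_mem h2) h1
  show y ∈ T
  convert h3 using 1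
  group

/-- A `p`-element fixing all irreducible characters of a normal `p'`-subgroup centralises it. -/
theorem centralizes_of_invariant (N : Subgroup G) [N.Normal] {p : ℕ} [Fact p.Prime]
    (hN : (Nat.card N).Coprime p) (y : G) {k : ℕ} (hy : y ^ (p ^ k) = 1)
    (hinv : ∀ θ : IrrCharacter N, Clifford.conjFn y (θ : N → ℂ) = (θ : N → ℂ)) :
    ∀ n ∈ N, y * n = n * y := by
  classical
  have := Fintype.ofFinite N
  set α : MulAut N := MulAut.conjNormal y with hα
  have hcl : ∀ C : ConjClasses N, ConjClasses.map α.toMonoidHom C = C := by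
    have := Fintype.ofFinite (ConjClasses N)
    have e1 := Char.natCard_fixed_irr_equiv α
    have e2 : Nat.card {χ : IrrCharacter N // (χ : N → ℂ) ∘ α = (χ : N → ℂ)} =
        Nat.card (IrrCharacter N) := by
      refine Nat.card_congr (Equiv.subtypeUnivEquiv fun χ => ?_)
      funext m
      refine Eq.trans ?_ (congr_fun (hinv χ) m)
      exact congrArg (χ : N → ℂ) (Subtype.ext (by simp [hα, Clifford.coe_conjN]))
    rw [e2, Char.irr_card_eq] at e1
    intro C
    by_contra hC
    have hlt' : Nat.card {C : ConjClasses N //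
        ConjClasses.map α.toMonoidHom C = C} < Nat.card (ConjClasses N) := Finite.card_subtype_lt hC
    omega
  have hC0 : (centralizer ({y} : Set G)).subgroupOf N = ⊤ := by
    refine StructB.eq_top_of_conj_cover _ fun g => ?_
    have hfix : IsConj g (α g) := by
      have := hcl (ConjClasses.mk g)
      exact ConjClasses.mk_eq_mk_iff_isConj.1 this.symm
    have hiff : ∀ m : N, IsConj g m ↔ IsConj g (α m) := fun m => by
      refine ⟨fun h => hfix.trans (α.toMonoidHom.map_isConj h), fun h => ?_⟩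
      have h' := α.symm.toMonoidHom.map_isConj (hfix.symm.trans h)
      simpa using h'
    let σ : Equiv.Perm {m : N // IsConj g m} := α.toEquiv.subtypeEquiv hiff
    have hpow : ∀ (n : ℕ) (a : {m : N // IsConj g m}),
        (((σ ^ n) a).1 : G) = y ^ n * (a.1 : G) * (y ^ n)⁻¹ := by
      intro n
      induction n with
      | zero => simp
      | succ n ih =>
        intro a
        rw [pow_succ', Equiv.Perm.mul_apply]
        show ((α ((σ ^ n) a).1 : N) : G) = _
        rw [hα, MulAut.conjNormal_apply, ih, pow_succ']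
        group
    have hσ : σ ^ (p ^ k) = 1 := Equiv.ext fun a =>
      Subtype.ext (Subtype.ext (by rw [hpow, hy]; simp))
    have hmod := StructB.card_fixed_modEq σ hσ
    have hdvd : Nat.card {m : N // IsConj g m} ∣ Nat.card N := by
      have e : {m : N | IsConj g m} = MulAction.orbit (ConjAct N) g := by
        ext m
        rw [ConjAct.mem_orbit_conjAct, Set.mem_ofPred_eq]
        exact ⟨IsConj.symm, IsConj.symm⟩
      change Nat.card ({m : N | IsConj g m} : Set N) ∣ _
      rw [Nat.card_coe_set_eq, e, ← MulAction.index_stabilizer]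
      exact (Subgroup.index_dvd_card _).trans (Nat.card_congr ConjAct.ofConjAct.toEquiv).dvd
    have hpc : ¬ p ∣ Nat.card {m : N // IsConj g m} := fun hd =>
      (Fact.out : p.Prime).coprime_iff_not_dvd.1 hN.symm (hd.trans hdvd)
    have hpos : Nat.card {a // σ a = a} ≠ 0 := fun h0 =>
      hpc (Nat.modEq_zero_iff_dvd.1 (by rw [h0] at hmod; exact hmod.symm))
    obtain ⟨⟨⟨m, hm⟩, hfm⟩⟩ := (Nat.card_ne_zero.1 hpos).1
    obtain ⟨w, hw⟩ := isConj_iff.1 hm
    refine ⟨w, ?_⟩
    rw [hw, mem_subgroupOf, mem_centralizer_singleton_iff]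
    have h1 : (((σ ^ 1) ⟨m, hm⟩).1 : G) = (m : G) := by
      rw [pow_one, hfm]
    rw [hpow, pow_one] at h1
    first
      | exact mul_inv_eq_iff_eq_mul.1 h1
      | exact (mul_inv_eq_iff_eq_mul.1 h1).symm
  intro n hn
  have h1 : (⟨n, hn⟩ : N) ∈ (centralizer ({y} : Set G)).subgroupOf N := hC0 ▸ mem_top _
  rw [mem_subgroupOf, mem_centralizer_singleton_iff] at h1
  first
    | exact h1
    | exact h1.symm

/-- The structure of a group all of whose vanishing elements have `p`-power order. -/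
theorem main (hna : ¬ IsMulCommutative G) (p : ℕ) [Fact p.Prime]
    (hvan : ∀ g : G, (∃ χ : IrrCharacter G, (χ : G → ℂ) g = 0) → ∃ m : ℕ, 1 ≤ m ∧ orderOf g = p ^ m) :
    IsPGroup p G ∨ (center G = pCore p G ∧
      ∃ H : Subgroup (G ⧸ center G), IsFrobeniusComplement H ∧ IsPGroup p H) := by
  classical
  have := Fintype.ofFinite G
  have hp := (Fact.out : p.Prime)
  have hdeg : ∀ χ : IrrCharacter G, charDegree (χ : G → ℂ) ≠ 1 → p ∣ charDegree (χ : G → ℂ) := by
    intro χ h1
    have hd := BlockB.charDegree_cast (Char.irr_isCharacter χ.2)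
    have h0 : charDegree (χ : G → ℂ) ≠ 0 := fun e =>
      Char.irr_apply_one_ne_zero χ.2 (by rw [← hd, e, Nat.cast_zero])
    obtain ⟨g, hg⟩ := Char.exists_char_eq_zero χ.2 hd.symm (by omega)
    obtain ⟨m, -, hm⟩ := hvan g ⟨χ, hg⟩
    exact Cfsg.Agent.S4558.result p χ (Char.irr_isCharacter χ.2) g ⟨m, hm⟩ hg
  obtain ⟨N, hNn, hNc, k, hk⟩ := Cfsg.Agent.S4456.result p hp hdeg
  have hNp : ¬ p ∣ Nat.card N := hp.coprime_iff_not_dvd.1 hNc.symm
  let P : Sylow p G := default
  have hcG : Nat.card G = Nat.card N * p ^ k := by rw [← hk, N.card_mul_index]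
  have hPc : Nat.card (P : Subgroup G) = p ^ k := by
    rw [Sylow.card_eq_multiplicity, hcG, Nat.factorization_mul Nat.card_pos.ne'
      (pow_ne_zero _ hp.ne_zero)]
    rw [Finsupp.add_apply, Nat.factorization_eq_zero_of_not_dvd hNp, zero_add, hp.factorization_pow,
      Finsupp.single_eq_same]
  have hcomp : N.IsComplement' (P : Subgroup G) :=
    isComplement'_of_coprime (by rw [hPc, hcG]) (by rw [hPc]; exact Nat.Coprime.pow_right k hNc)
  have hinf : ∀ a : G, a ∈ N → a ∈ (P : Subgroup G) → a = 1 := fun a ha hb =>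
    mem_bot.1 (hcomp.disjoint.le_bot ⟨ha, hb⟩)
  have hmk : ∀ g : G, ∃ n ∈ N, ∃ w ∈ (P : Subgroup G), g = n * w := fun g => by
    obtain ⟨⟨n, w⟩, h⟩ := hcomp.2 g
    exact ⟨n, n.2, w, w.2, h.symm⟩
  have hQ : IsPGroup p (G ⧸ N) := IsPGroup.of_card (by rw [← hk, Subgroup.index_eq_card])
  have : Group.IsNilpotent (G ⧸ N) := hQ.isNilpotent
  -- mixed elements do not vanish
  have key : ∀ y ∈ (P : Subgroup G), ∀ x ∈ N, x ≠ 1 → y * x = x * y →
      (∀ g : G, g * y * g⁻¹ * y⁻¹ ∈ N) ∧ ∀ n ∈ N, y * n = n * y := by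
    intro y hy x hx hx1 hxy
    obtain ⟨j, hj⟩ := P.2 ⟨y, hy⟩
    have hj' : y ^ (p ^ j) = 1 := congrArg Subtype.val hj
    have hnv : ∀ χ : IrrCharacter G, (χ : G → ℂ) (x * y) ≠ 0 := by
      intro χ h0
      obtain ⟨m, -, hm⟩ := hvan _ ⟨χ, h0⟩
      apply hx1
      have h1 : (x * y) ^ (p ^ m * p ^ j) = 1 := by
        rw [pow_mul, ← hm, pow_orderOf_eq_one, one_pow]
      rw [Commute.mul_pow hxy.symm, mul_comm (p ^ m), pow_mul y, hj', one_pow, mul_one] at h1
      refine orderOf_eq_one_iff.1 (Nat.eq_one_of_dvd_coprimes ?_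
        (Subgroup.orderOf_dvd_natCard N hx) (orderOf_dvd_of_pow_eq_one h1))
      exact Nat.Coprime.mul_right (hNc.pow_right j) (hNc.pow_right m)
    have hcen := mem_center_of_nonvanishing (G ⧸ N) (y : G ⧸ N) fun ψ => by
      have := hnv ⟨_, Char.isIrrCharacter_comp_surjective ψ.2 (QuotientGroup.mk' N)
        (QuotientGroup.mk'_surjective N)⟩
      simpa [(QuotientGroup.eq_one_iff x).2 hx] using this
    have hc : ∀ g : G, g * y * g⁻¹ * y⁻¹ ∈ N := fun g => by
      rw [← QuotientGroup.eq_one_iff]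
      have := mem_center_iff.1 hcen (g : G ⧸ N)
      simp only [QuotientGroup.mk_mul, QuotientGroup.mk_inv]
      rw [this]; group
    exact ⟨hc, centralizes_of_invariant N hNc y hj'
      (invariant_of_nonvanishing N x y hx hc hnv)⟩
  by_cases hN1 : N = ⊥
  · left
    refine IsPGroup.of_card (n := k) ?_
    rw [hcG, hN1, card_bot, one_mul]
  right
  obtain ⟨x0, hx0, hx01⟩ := (Subgroup.bot_or_exists_ne_one N).resolve_left hN1
  -- centralisers of `N` in `P` are central
  have hP0 : ∀ y ∈ (P : Subgroup G), (∀ n ∈ N, y * n = n * y) → y ∈ center G := by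
    intro y hy hc
    obtain ⟨hmod, -⟩ := key y hy x0 hx0 hx01 (hc x0 hx0)
    rw [mem_center_iff]
    intro g
    obtain ⟨n, hn, w, hw, rfl⟩ := hmk g
    have h1 : w * y = y * w := by
      have := hinf _ (hmod w) (mul_mem (mul_mem (mul_mem hw hy) (inv_mem hw)) (inv_mem hy))
      calc w * y = (w * y * w⁻¹ * y⁻¹) * (y * w) := by group
        _ = y * w := by rw [this, one_mul]
    rw [mul_assoc, h1, ← mul_assoc, ← hc n hn, mul_assoc]
  have hPZ : ¬ (P : Subgroup G) ≤ center G := by
    intro hle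
    have hidx : (center G).index ∣ Nat.card N := by
      refine (Subgroup.index_dvd_of_le hle).trans ?_
      rw [← mul_dvd_mul_iff_right (pow_ne_zero k hp.ne_zero), ← hcG, ← hPc,
        Subgroup.index_mul_card]
    apply hna
    refine ⟨⟨(Char.comm_iff_forall_degree_one).2 fun χ => ?_⟩⟩
    obtain ⟨n, ρ, hρ, hχe⟩ := χ.2
    have := hρ
    have hdd := Char.degree_dvd_center_index ρ
    have hd := BlockB.charDegree_cast (Char.irr_isCharacter χ.2)
    by_contra hne
    have h1 : charDegree (χ : G → ℂ) ≠ 1 := fun e => hne (by rw [← hd, e, Nat.cast_one])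
    apply hNp
    refine (hdeg χ h1).trans (Dvd.dvd.trans ?_ hidx)
    have e : charDegree (χ : G → ℂ) = n := by
      apply Nat.cast_injective (R := ℂ)
      rw [hd, ← hχe, Representation.char_one, Module.finrank_fin_fun]
    rw [e]
    simpa using hdd
  have hZP : ∀ z ∈ center G, z ∈ (P : Subgroup G) := by
    intro z hz
    obtain ⟨n, hn, y, hy, rfl⟩ := hmk z
    rcases eq_or_ne n 1 with rfl | hn1
    · simpa using hy
    exfalso
    apply hPZ
    intro w hw
    refine hP0 w hw (key w hw n hn hn1 ?_).2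
    have h1 := mem_center_iff.1 hz w
    have h2 : n⁻¹ * (w * n * w⁻¹) = y * (w * y * w⁻¹)⁻¹ := by
      calc n⁻¹ * (w * n * w⁻¹) = n⁻¹ * (w * (n * y)) * y⁻¹ * w⁻¹ := by group
        _ = n⁻¹ * ((n * y) * w) * y⁻¹ * w⁻¹ := by rw [h1]
        _ = y * (w * y * w⁻¹)⁻¹ := by group
    have h3 := hinf _ (mul_mem (inv_mem hn) (hNn.conj_mem n hn w))
      (h2 ▸ mul_mem hy (inv_mem (mul_mem (mul_mem hw hy) (inv_mem hw))))
    calc w * n = n * (n⁻¹ * (w * n * w⁻¹)) * w := by group
      _ = n * w := by rw [h3, mul_one]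
  have hZ : center G = pCore p G := by
    refine le_antisymm (Solvable.le_pCore inferInstance (P.2.to_le fun z hz => hZP z hz))
      fun y hy => ?_
    have hyP := Solvable.pCore_le_sylow P hy
    refine hP0 y hyP fun n hn => ?_
    have h3 := hinf (y * n * y⁻¹ * n⁻¹) (mul_mem (hNn.conj_mem n hn y) (inv_mem hn)) ?_
    · calc y * n = (y * n * y⁻¹ * n⁻¹) * (n * y) := by group
        _ = n * y := by rw [h3, one_mul]
    · have : y * n * y⁻¹ * n⁻¹ = y * (n * y⁻¹ * n⁻¹) := by group
      rw [this]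
      exact mul_mem hyP (Solvable.pCore_le_sylow P
        ((Solvable.pCore_normal p G).conj_mem _ (inv_mem hy) n))
  refine ⟨hZ, (P : Subgroup G).map (QuotientGroup.mk' (center G)), ⟨?_, ?_, ?_⟩, P.2.map _⟩
  · intro h
    apply hPZ
    intro y hy
    rw [← QuotientGroup.eq_one_iff]
    have h' : (QuotientGroup.mk' (center G)) y ∈ (⊥ : Subgroup (G ⧸ center G)) := h ▸ mem_map_of_mem _ hy
    exact mem_bot.1 h'
  · intro h
    have h' : (x0 : G ⧸ center G) ∈ (P : Subgroup G).map (QuotientGroup.mk' (center G)) := h ▸ mem_top _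
    obtain ⟨y, hy, he⟩ := mem_map.1 h'
    have h2 : y⁻¹ * x0 ∈ center G := QuotientGroup.eq.1 he
    have := mul_mem hy (hZP _ h2)
    rw [mul_inv_cancel_left] at this
    exact hx01 (hinf _ hx0 this)
  · intro g hg
    obtain ⟨g, rfl⟩ := QuotientGroup.mk_surjective g
    obtain ⟨n, hn, w, hw, rfl⟩ := hmk g
    have hn1 : n ≠ 1 := fun e => hg (mem_map.2 ⟨w, hw, by simp [e]⟩)
    rw [eq_bot_iff]
    rintro h ⟨h1, h2⟩
    obtain ⟨y, hy, rfl⟩ := mem_map.1 h1
    obtain ⟨b, hb, hbe⟩ := (Subgroup.mem_smul_pointwise_iff_exists _ _ _).1 h2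
    obtain ⟨v, hv, rfl⟩ := mem_map.1 hb
    simp only [QuotientGroup.mk'_apply, MulAut.smul_def, MulAut.conj_apply, ← QuotientGroup.mk_inv,
      ← QuotientGroup.mk_mul] at hbe
    have hz := hZP _ (QuotientGroup.eq.1 hbe)
    rw [mem_bot, QuotientGroup.mk'_apply, QuotientGroup.eq_one_iff]
    refine hP0 y hy (key y hy n hn hn1 ?_).2
    have h3 : n⁻¹ * y * n * y⁻¹ = 1 := by
      refine hinf _ ?_ ?_
      · have : n⁻¹ * y * n * y⁻¹ = n⁻¹ * (y * n * y⁻¹) := by group
        rw [this]; exact mul_mem (inv_mem hn) (hNn.conj_mem n hn y)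
      · refine mul_mem ?_ (inv_mem hy)
        set c := (n * w * v * (n * w)⁻¹)⁻¹ * y with hc
        have hcc : n⁻¹ * c * n = c := by
          have := mem_center_iff.1 (QuotientGroup.eq.1 hbe) n⁻¹
          rw [this, inv_mul_cancel_right]
        have : n⁻¹ * y * n = (w * v * w⁻¹) * (n⁻¹ * c * n) := by rw [hc]; group
        rw [this, hcc]
        exact mul_mem (mul_mem (mul_mem hw hv) (inv_mem hw)) hz
    calc y * n = n * (n⁻¹ * y * n * y⁻¹) * y := by group
      _ = n * y := by rw [h3, mul_one]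

end CfsgLib.VanishP
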